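import Groth.Agent.SerreSplit.Basic
import Mathlib.Algebra.Module.Projective
import Mathlib.RingTheory.Jacobson.Ideal
import Mathlib.RingTheory.Noetherian.Basic
import Mathlib.RingTheory.Localization.AtPrime.Basic
import Mathlib.RingTheory.Localization.Module
import Mathlib.LinearAlgebra.Projection
import Mathlib.LinearAlgebra.FreeModule.Basic
import Mathlib.LinearAlgebra.Basis.Submodule
import Mathlib.Tactic.Module

/-!
Projective modules of infinite rank everywhere: unimodular elements and free summands (Bass).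
-/

set_option autoImplicit false

universe u

namespace Groth.Agent.SerreSplit.Bass

open Groth.Agent.SerreSplit.Basic

variable {R : Type u} [CommRing R] {P : Type u} [AddCommGroup P] [Module R P]

/-- No finite family spans modulo `perp`, at any maximal ideal. -/
def InfRank (R : Type u) [CommRing R] (P : Type u) [AddCommGroup P] [Module R P] : Prop :=
  ∀ (y : Ideal R), y.IsMaximal → ∀ (h : ℕ) (g : Fin h → P),
    Submodule.span R (Set.range g) ⊔ perp y P ≠ ⊤

theorem map_perp {Q : Type u} [AddCommGroup Q] [Module R Q] (f : P →ₗ[R] Q) (y : Ideal R) {x : P}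
    (hx : x ∈ perp y P) : f x ∈ perp y Q := fun φ => hx (φ.comp f)

theorem exists_ind_subfamily (y : Ideal R) [y.IsMaximal] :
    ∀ (h : ℕ) (g : Fin h → P), ∃ (h' : ℕ) (g' : Fin h' → P), Ind y g' ∧
      Submodule.span R (Set.range g) ≤ Submodule.span R (Set.range g') ⊔ perp y P := by
  intro h
  induction h with
  | zero => intro g; exact ⟨0, g, fun _ _ i => i.elim0, le_sup_left⟩
  | succ h ih =>
    intro g
    obtain ⟨h', g', hind, hle⟩ := ih (Fin.init g)
    have hg : Submodule.span R (Set.range g) =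
        Submodule.span R (Set.range (Fin.init g)) ⊔ Submodule.span R {g (Fin.last h)} := by
      rw [← Submodule.span_union]
      congr 1
      ext z
      simp only [Set.mem_range, Set.union_singleton, Set.mem_insert_iff]
      constructor
      · rintro ⟨i, rfl⟩
        induction i using Fin.lastCases with
        | last => exact Or.inl rfl
        | cast i => exact Or.inr ⟨i, rfl⟩
      · rintro (rfl | ⟨i, rfl⟩)
        · exact ⟨_, rfl⟩
        · exact ⟨i.castSucc, rfl⟩
    by_cases hi : Ind y (Fin.snoc g' (g (Fin.last h)) : Fin (h' + 1) → P)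
    · refine ⟨h' + 1, _, hi, ?_⟩
      rw [hg]
      refine sup_le (hle.trans (sup_le_sup_right (Submodule.span_mono ?_) _)) ?_
      · rintro _ ⟨i, rfl⟩
        exact ⟨i.castSucc, Fin.snoc_castSucc (α := fun _ => P) _ _ _⟩
      · refine le_sup_of_le_left (Submodule.span_le.mpr ?_)
        rintro _ rfl
        exact Submodule.subset_span ⟨Fin.last h', Fin.snoc_last (α := fun _ => P) _ _⟩
    · refine ⟨h', g', hind, ?_⟩
      rw [hg]
      refine sup_le hle (Submodule.span_le.mpr ?_)
      rintro _ rfl
      obtain ⟨c, hc⟩ := exists_dep hind hi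
      exact Submodule.mem_sup.mpr ⟨∑ i, c i • g' i,
        (Submodule.mem_span_range_iff_exists_fun R).mpr ⟨c, rfl⟩, _, hc, by abel⟩

theorem exists_smul_mem_span [Module.Projective R P] (y : Ideal R) [y.IsMaximal] {h : ℕ} (g : Fin h → P)
    (hind : Ind y g) (htop : Submodule.span R (Set.range g) ⊔ perp y P = ⊤) (w : P) :
    ∃ t : R, t ∉ y ∧ t • w ∈ Submodule.span R (Set.range g) := by
  classical
  obtain ⟨j, hj⟩ := Module.projective_def'.mp ‹Module.Projective R P›
  obtain ⟨φ, hφ⟩ := hind.exists_det_notMem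
  let A : Matrix (Fin h) (Fin h) R := Matrix.of fun i j => φ j (g i)
  let ψ : P →ₗ[R] (Fin h → R) := LinearMap.pi fun k => ∑ j, A.adjugate j k • φ j
  let K : P →ₗ[R] P := A.det • LinearMap.id - (Fintype.linearCombination R g).comp ψ
  have hKg : ∀ i, K (g i) = 0 := by
    intro i
    have hψ : ψ (g i) = A.det • Pi.single i 1 := by
      ext k
      have := congrFun (congrFun (Matrix.mul_adjugate A) i) k
      rw [Matrix.mul_apply, Matrix.smul_apply, Matrix.one_apply] at this
      simp only [ψ, LinearMap.pi_apply, LinearMap.sum_apply, LinearMap.smul_apply, smul_eq_mul,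
        Pi.smul_apply, Pi.single_apply, eq_comm (a := k) (b := i)]
      rw [← smul_eq_mul (A.det), ← this]
      exact Finset.sum_congr rfl fun j _ => mul_comm _ _
    simp [K, hψ, Fintype.linearCombination_apply_single]
  have hKperp : ∀ k : P, K k ∈ perp y P := by
    intro k
    obtain ⟨a, ha, b, hb, rfl⟩ := Submodule.mem_sup.mp (htop ▸ Submodule.mem_top : k ∈ _ ⊔ _)
    obtain ⟨c, rfl⟩ := (Submodule.mem_span_range_iff_exists_fun R).mp ha
    rw [map_add, map_sum]
    simp only [map_smul, hKg, smul_zero, Finset.sum_const_zero, zero_add]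
    exact map_perp K y hb
  let w' := K w
  let T := (j w').support
  let Z : Matrix T T R := Matrix.of fun k l => j (K (k : P)) (l : P)
  let b : T → R := fun k => j w' (k : P)
  have hw' : w' = ∑ k : T, b k • (k : P) := by
    have h1 := LinearMap.congr_fun hj w'
    simp only [LinearMap.comp_apply, LinearMap.id_apply, Finsupp.linearCombination_apply, id_eq,
      Finsupp.sum] at h1
    conv_lhs => rw [← h1]
    rw [← Finset.sum_coe_sort]
  have hKw' : K w' = A.det • w' := by
    have : K (Fintype.linearCombination R g (ψ w)) = 0 := by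
      rw [Fintype.linearCombination_apply, map_sum]
      simp [hKg]
    change K (A.det • w - Fintype.linearCombination R g (ψ w)) = _
    rw [map_sub, map_smul, this, sub_zero]
  let M0 : Matrix T T R := A.det • (1 : Matrix T T R) - Z
  have hb0 : Matrix.vecMul b M0 = 0 := by
    ext l
    have h1 := DFunLike.congr_fun (congrArg j hKw') (l : P)
    conv_lhs at h1 => rw [hw']
    simp only [map_sum, map_smul, Finsupp.coe_finset_sum, Finset.sum_apply, Finsupp.smul_apply,
      smul_eq_mul] at h1
    simp only [M0, Matrix.vecMul_sub, Matrix.vecMul_smul, Matrix.vecMul_one, Pi.sub_apply,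
      Pi.smul_apply, smul_eq_mul, Pi.zero_apply, sub_eq_zero]
    exact h1.symm
  have hdet : M0.det ∉ y := by
    intro hmem
    rw [← Ideal.Quotient.eq_zero_iff_mem, RingHom.map_det] at hmem
    have h2 : (Ideal.Quotient.mk y).mapMatrix M0 = (Ideal.Quotient.mk y A.det) • (1 : Matrix T T (R ⧸ y)) := by
      ext k l
      simp only [M0, Z, RingHom.mapMatrix_apply, Matrix.map_apply, Matrix.sub_apply, Matrix.smul_apply,
        Matrix.of_apply, map_sub, smul_eq_mul, map_mul, Matrix.one_apply]
      rw [Ideal.Quotient.eq_zero_iff_mem.mpr (show (j (K (k : P))) (l : P) ∈ y from hKperp (k : P) ((Finsupp.lapply (l : P)).comp j))]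
      split_ifs <;> simp
    rw [h2, Matrix.det_smul, Matrix.det_one, mul_one, ← map_pow, Ideal.Quotient.eq_zero_iff_mem] at hmem
    exact hφ (Ideal.IsPrime.mem_of_pow_mem inferInstance _ hmem)
  have hw'0 : M0.det • w' = 0 := by
    have h3 : M0.det • b = 0 := by
      have := congrArg (fun v => Matrix.vecMul v M0.adjugate) hb0
      simpa [Matrix.vecMul_vecMul, Matrix.mul_adjugate, Matrix.vecMul_smul] using this
    rw [hw', Finset.smul_sum]
    refine Finset.sum_eq_zero fun k _ => ?_
    rw [smul_smul, show M0.det * b k = 0 from congrFun h3 k, zero_smul]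
  refine ⟨M0.det * A.det, fun hm => (Ideal.IsPrime.mem_or_mem inferInstance hm).elim hdet hφ, ?_⟩
  have h4 : A.det • w = w' + Fintype.linearCombination R g (ψ w) := by
    simp [w', K]
  rw [mul_smul, h4, smul_add, hw'0, zero_add]
  exact Submodule.smul_mem _ _ ((Submodule.mem_span_range_iff_exists_fun R).mpr
    ⟨ψ w, (Fintype.linearCombination_apply R g (ψ w)).symm⟩)

theorem infRank_of_not_finite [Module.Projective R P]
    (hP : ∀ (m : Ideal R) [m.IsMaximal],
      ¬ Module.Finite (Localization.AtPrime m) (LocalizedModule m.primeCompl P)) : InfRank R P := by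
  classical
  intro y hy h g htop
  obtain ⟨h', g', hind, hle⟩ := exists_ind_subfamily y h g
  have htop' : Submodule.span R (Set.range g') ⊔ perp y P = ⊤ :=
    top_le_iff.mp (htop ▸ sup_le hle le_sup_right)
  refine hP y ⟨⟨Finset.univ.image fun i => LocalizedModule.mkLinearMap y.primeCompl P (g' i), ?_⟩⟩
  rw [Finset.coe_image, Finset.coe_univ, Set.image_univ, eq_top_iff]
  intro z _
  induction z using LocalizedModule.induction_on with
  | h w u =>
    obtain ⟨t, ht, htw⟩ := exists_smul_mem_span y g' hind htop' w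
    let t' : y.primeCompl := ⟨t, ht⟩
    have h1 : LocalizedModule.mk w u =
        Localization.mk 1 (t' * u) • LocalizedModule.mkLinearMap y.primeCompl P (t • w) := by
      rw [LocalizedModule.mkLinearMap_apply, LocalizedModule.mk_smul_mk, one_smul, mul_one]
      exact (LocalizedModule.mk_cancel_common_left t' u w).symm
    rw [h1]
    refine Submodule.smul_mem _ _ ?_
    obtain ⟨c, hc⟩ := (Submodule.mem_span_range_iff_exists_fun R).mp htw
    rw [← hc, map_sum]
    refine Submodule.sum_mem _ fun i _ => ?_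
    rw [map_smul, ← IsScalarTower.algebraMap_smul (Localization.AtPrime y) (c i)]
    exact Submodule.smul_mem _ _ (Submodule.subset_span ⟨i, rfl⟩)

theorem exists_unimodular [IsNoetherianRing (R ⧸ (⊥ : Ideal R).jacobson)] (hinf : InfRank R P)
    (s : P) (M : Submodule R P) (hM : Submodule.span R {s} ⊔ M = ⊤) :
    ∃ m ∈ M, ∃ φ : P →ₗ[R] R, φ (s + m) = 1 := by
  classical
  let J := (⊥ : Ideal R).jacobson
  let J' := Ideal.Quotient.mk J
  let I : P → Ideal R := fun x => LinearMap.range (LinearMap.applyₗ x : (P →ₗ[R] R) →ₗ[R] R)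
  suffices h : ∀ K : Ideal (R ⧸ J), ∀ x, x - s ∈ M → (I x).map J' = K →
      ∃ m ∈ M, ∃ φ : P →ₗ[R] R, φ (s + m) = 1 from h _ s (by simp) rfl
  intro K
  induction K using WellFoundedGT.induction with
  | ind K ih =>
    intro x hx hK
    by_cases htop : (I x).map J' = ⊤
    · obtain ⟨a, ⟨φ, rfl⟩, ha⟩ := (Ideal.mem_map_iff_of_surjective J' Ideal.Quotient.mk_surjective).mp
        (htop ▸ Submodule.mem_top : (1 : R ⧸ J) ∈ (I x).map J')
      have hu : IsUnit (φ x) := by
        have h1 : φ x - 1 ∈ J := Ideal.Quotient.eq.mp (ha.trans (map_one J').symm)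
        by_contra hnu
        obtain ⟨m, hm, hxm⟩ := exists_max_ideal_of_mem_nonunits hnu
        have h2 : φ x - 1 ∈ m := (show J ≤ m from sInf_le ⟨bot_le, hm⟩) h1
        exact hm.ne_top (m.eq_top_iff_one.mpr (by simpa using m.sub_mem hxm h2))
      obtain ⟨u, hu⟩ := hu
      refine ⟨x - s, hx, (↑u⁻¹ : R) • φ, ?_⟩
      rw [add_sub_cancel, LinearMap.smul_apply, smul_eq_mul]
      change (↑u⁻¹ : R) * φ x = 1
      rw [← hu, Units.inv_mul]
    · obtain ⟨y', hy', hle⟩ := Ideal.exists_le_maximal _ htop
      let y := y'.comap J'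
      have hy : y.IsMaximal := Ideal.comap_isMaximal_of_surjective J' Ideal.Quotient.mk_surjective
      have hxy : x ∈ perp y P := fun φ => hle (Ideal.mem_map_of_mem J' ⟨φ, rfl⟩)
      obtain ⟨G, hG⟩ := IsNoetherian.noetherian ((I x).map J')
      have hG' : ∀ a : G, ∃ φ : P →ₗ[R] R, J' (φ x) = a := by
        intro a
        obtain ⟨b, ⟨φ, rfl⟩, hb⟩ := (Ideal.mem_map_iff_of_surjective J' Ideal.Quotient.mk_surjective).mp
          (hG ▸ Submodule.subset_span a.2 : (a : R ⧸ J) ∈ (I x).map J')
        exact ⟨φ, hb⟩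
      choose φ hφ using hG'
      let Φ : P →ₗ[R] (G → R ⧸ J) := LinearMap.pi fun a => (Algebra.linearMap R (R ⧸ J)).comp (φ a)
      have : IsNoetherian R (R ⧸ J) := by
        rw [isNoetherian_iff']
        refine StrictMono.wellFoundedGT (f := fun N : Submodule R (R ⧸ J) =>
          ({ carrier := N, add_mem' := N.add_mem, zero_mem' := N.zero_mem,
             smul_mem' := fun c z hz => by
              obtain ⟨c, rfl⟩ := Ideal.Quotient.mk_surjective c
              rw [smul_eq_mul, ← Ideal.Quotient.algebraMap_eq, ← Algebra.smul_def]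
              exact N.smul_mem c hz } : Ideal (R ⧸ J))) fun N₁ N₂ h => h
      obtain ⟨N, c, hc⟩ := Submodule.fg_iff_exists_fin_generating_family.mp
        (IsNoetherian.noetherian (M.map Φ))
      have hc' : ∀ i, ∃ m ∈ M, Φ m = c i := fun i =>
        Submodule.mem_map.mp (hc ▸ Submodule.subset_span ⟨i, rfl⟩ : c i ∈ M.map Φ)
      choose m hmM hm using hc'
      obtain ⟨m', hm'M, hm'Φ, hm'y⟩ : ∃ m' ∈ M, Φ m' = 0 ∧ m' ∉ perp y P := by
        by_contra hno
        simp only [not_exists, not_and, not_not] at hno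
        refine hinf y hy N m (top_le_iff.mp (hM ▸ sup_le (Submodule.span_le.mpr ?_) fun z hz => ?_))
        rotate_left
        · obtain ⟨d, hd⟩ := (Submodule.mem_span_range_iff_exists_fun R).mp
            (hc.symm ▸ Submodule.mem_map_of_mem hz : Φ z ∈ Submodule.span R (Set.range c))
          refine Submodule.mem_sup.mpr ⟨∑ i, d i • m i,
            (Submodule.mem_span_range_iff_exists_fun R).mpr ⟨d, rfl⟩, z - ∑ i, d i • m i,
            hno _ (M.sub_mem hz (M.sum_mem fun i _ => M.smul_mem _ (hmM i))) ?_, by abel⟩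
          simp [map_sub, map_sum, hm, hd]
        · intro z hz'
          rw [Set.mem_singleton_iff] at hz'
          rw [hz']
          have hz := hx
          obtain ⟨d, hd⟩ := (Submodule.mem_span_range_iff_exists_fun R).mp
            (hc.symm ▸ Submodule.mem_map_of_mem hz : Φ (x - s) ∈ Submodule.span R (Set.range c))
          refine Submodule.mem_sup.mpr ⟨-(∑ i, d i • m i),
            neg_mem ((Submodule.mem_span_range_iff_exists_fun R).mpr ⟨d, rfl⟩), x - ((x - s) - ∑ i, d i • m i),
            sub_mem hxy (hno _ (M.sub_mem hz (M.sum_mem fun i _ => M.smul_mem _ (hmM i))) ?_), by abel⟩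
          simp [map_sub, map_sum, hm, hd]
      refine ih ((I (x + m')).map J') (lt_of_le_not_ge ?_ ?_) (x + m') ?_ rfl
      · rw [← hK, ← hG, Submodule.span_le]
        intro a ha
        have haφ : J' (φ ⟨a, ha⟩ x) = a := hφ ⟨a, ha⟩
        rw [← haφ]
        have h0 : J' (φ ⟨a, ha⟩ m') = 0 := congrFun hm'Φ ⟨a, ha⟩
        have hmem := Ideal.mem_map_of_mem J' (show φ ⟨a, ha⟩ (x + m') ∈ I (x + m') from ⟨φ ⟨a, ha⟩, rfl⟩)
        rwa [map_add, map_add, h0, add_zero] at hmem
      · intro hge
        refine hm'y fun ψ => ?_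
        have h1 : J' (ψ (x + m')) ∈ y' :=
          hle (hK ▸ hge (Ideal.mem_map_of_mem J' (show ψ (x + m') ∈ I (x + m') from ⟨ψ, rfl⟩)))
        have h2 : ψ (x + m') ∈ y := h1
        rw [map_add] at h2
        simpa using y.sub_mem h2 (hxy ψ)
      · rw [add_sub_right_comm]
        exact M.add_mem hx hm'M

theorem InfRank.of_surjective {Q : Type u} [AddCommGroup Q] [Module R Q] (hinf : InfRank R P)
    (f : Q →ₗ[R] P) (hf : Function.Surjective f) : InfRank R Q := by
  intro y hy h g htop
  refine hinf y hy h (f ∘ g) (eq_top_iff.mpr fun p _ => ?_)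
  obtain ⟨q, rfl⟩ := hf p
  obtain ⟨a, ha, b, hb, rfl⟩ := Submodule.mem_sup.mp (htop ▸ Submodule.mem_top : q ∈ _ ⊔ _)
  rw [map_add, Set.range_comp, ← Submodule.map_span]
  exact Submodule.add_mem_sup (Submodule.mem_map_of_mem ha) (map_perp f y hb)

theorem InfRank.of_compl (hinf : InfRank R P) {K K' : Submodule R P} (hK : IsCompl K K')
    [Module.Finite R K] : InfRank R K' := by
  intro y hy h g htop
  obtain ⟨n, c, hc⟩ := Submodule.fg_iff_exists_fin_generating_family.mp
    (Module.Finite.iff_fg.mp ‹Module.Finite R K›)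
  refine hinf y hy (n + h) (Fin.append c fun i => (g i : P)) (eq_top_iff.mpr fun p _ => ?_)
  obtain ⟨a, ha, b, hb, rfl⟩ := Submodule.mem_sup.mp (hK.sup_eq_top ▸ Submodule.mem_top : p ∈ K ⊔ K')
  obtain ⟨b₁, hb₁, b₂, hb₂, hbb⟩ := Submodule.mem_sup.mp (htop ▸ Submodule.mem_top : (⟨b, hb⟩ : K') ∈ _ ⊔ _)
  have hb' : b = (b₁ : P) + b₂ := (congrArg Subtype.val hbb).symm
  rw [hb', ← add_assoc]
  refine Submodule.add_mem_sup (Submodule.add_mem _ ?_ ?_) (map_perp K'.subtype y hb₂)
  · rw [← hc] at ha
    refine Submodule.span_mono ?_ ha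
    rintro _ ⟨i, rfl⟩
    exact ⟨Fin.castAdd h i, Fin.append_left _ _ _⟩
  · obtain ⟨d, hd⟩ := (Submodule.mem_span_range_iff_exists_fun R).mp hb₁
    rw [← hd, Submodule.coe_sum]
    exact Submodule.sum_mem _ fun i _ => Submodule.smul_mem _ _
      (Submodule.subset_span ⟨Fin.natAdd n i, Fin.append_right _ _ _⟩)

/-- `s` lies in a finite free direct summand. -/
def InFreeSummand (R : Type u) [CommRing R] {P : Type u} [AddCommGroup P] [Module R P] (s : P) : Prop :=
  ∃ L L' : Submodule R P, IsCompl L L' ∧ Module.Free R L ∧ Module.Finite R L ∧ s ∈ L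

theorem InFreeSummand.map {Q : Type u} [AddCommGroup Q] [Module R Q] {s : P} (h : InFreeSummand R s)
    (e : P ≃ₗ[R] Q) : InFreeSummand R (e s) := by
  obtain ⟨L, L', hc, hfree, hfin, hs⟩ := h
  exact ⟨L.map (e : P →ₗ[R] Q), L'.map (e : P →ₗ[R] Q),
    (Submodule.orderIsoMapComap e).isCompl_iff.mp hc,
    Module.Free.of_equiv (e.submoduleMap L), Module.Finite.equiv (e.submoduleMap L),
    Submodule.mem_map_of_mem hs⟩

theorem descend [IsNoetherianRing (R ⧸ (⊥ : Ideal R).jacobson)] (hinf : InfRank R P) (s : P)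
    (h : InFreeSummand R ((0, s) : R × P)) : InFreeSummand R s := by
  obtain ⟨K, K', hc, hfree, hfin, hs⟩ := h
  have hinf' : InfRank R K' :=
    (hinf.of_surjective (LinearMap.snd R R P) Prod.snd_surjective).of_compl hc
  let π' : R × P →ₗ[R] K' := Submodule.projectionOnto K' K hc.symm
  have hsurj : ∀ b : K', π' (b : R × P) = b := fun b => Submodule.projectionOnto_apply_left hc.symm b
  have hker : ∀ a ∈ K, π' a = 0 := fun a ha => (Submodule.projectionOnto_apply_eq_zero_iff hc.symm).mpr ha
  obtain ⟨_, ⟨m, rfl⟩, φ, hφ⟩ := exists_unimodular hinf' (π' (1, 0))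
    (LinearMap.range (π'.comp (LinearMap.inr R R P))) (by
      refine eq_top_iff.mpr fun b _ => ?_
      rw [← hsurj b, show ((b : R × P)) = (b : R × P).1 • ((1, 0) : R × P) + (0, (b : R × P).2) from
        Prod.ext (by simp) (by simp), map_add, map_smul]
      exact Submodule.add_mem_sup (Submodule.smul_mem _ _ (Submodule.mem_span_singleton_self _))
        ⟨(b : R × P).2, rfl⟩)
  let e : R × P := (1, m)
  have he : φ (π' e) = 1 := by
    rw [← hφ, LinearMap.comp_apply, LinearMap.inr_apply, ← map_add π', Prod.mk_add_mk]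
    simp [e]
  let q : R × P →ₗ[R] P := LinearMap.snd R R P - (LinearMap.fst R R P).smulRight m
  have hq : ∀ x, q x = 0 → x = x.1 • e := by
    intro x hx
    simp only [q, LinearMap.sub_apply, LinearMap.smulRight_apply, LinearMap.fst_apply,
      LinearMap.snd_apply, sub_eq_zero] at hx
    exact Prod.ext (by simp [e]) (by simp [e, hx])
  have hzero : ∀ a ∈ K, ∀ b ∈ LinearMap.ker φ, q (a + (b : R × P)) = 0 → a = 0 ∧ b = 0 := by
    intro a ha b hb hx
    have h1 := congrArg π' (hq _ hx)
    rw [map_add, map_smul, hker a ha, zero_add, hsurj] at h1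
    have h2 := congrArg φ h1
    rw [map_smul, he, LinearMap.mem_ker.mp hb, smul_eq_mul, mul_one] at h2
    rw [← h2, zero_smul] at h1
    have h3 := hq _ hx
    rw [← h2, zero_smul, h1] at h3
    exact ⟨by simpa using h3, h1⟩
  have hqinj : Function.Injective (q.comp K.subtype) := by
    refine (injective_iff_map_eq_zero _).mpr fun a ha => Subtype.ext ?_
    exact (hzero a a.2 0 (zero_mem _) (by simpa using ha)).1
  refine ⟨LinearMap.range (q.comp K.subtype),
    (LinearMap.ker φ).map (q.comp K'.subtype), ⟨?_, ?_⟩,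
    Module.Free.of_equiv (LinearEquiv.ofInjective _ hqinj), inferInstance,
    ⟨⟨(0, s), hs⟩, by simp [q]⟩⟩
  · rw [Submodule.disjoint_def]
    rintro _ ⟨a, rfl⟩ ⟨b, hb, hab⟩
    have := hzero a a.2 (-b) (neg_mem hb) (by
      simp only [LinearMap.comp_apply, Submodule.coe_subtype] at hab
      rw [map_add, Submodule.coe_neg, map_neg, hab, add_neg_cancel])
    simp [this.1]
  · rw [codisjoint_iff, eq_top_iff]
    intro p _
    let x : R × P := (0, p)
    let b := π' x
    have hk : e - (π' e : R × P) ∈ K := by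
      rw [← Submodule.projectionOnto_apply_eq_zero_iff hc.symm, map_sub]
      exact sub_eq_zero.mpr (hsurj (π' e)).symm
    have ha : x - (b : R × P) ∈ K := by
      rw [← Submodule.projectionOnto_apply_eq_zero_iff hc.symm, map_sub]
      exact sub_eq_zero.mpr (hsurj b).symm
    have hqe : q e = 0 := by simp [q, e]
    refine Submodule.mem_sup.mpr ⟨q (x - (b : R × P)) - φ b • q (e - (π' e : R × P)),
      ⟨⟨_, K.sub_mem ha (K.smul_mem (φ b) hk)⟩, by simp [map_sub, map_smul]⟩,
      q ((b - φ b • π' e : K') : R × P), ⟨b - φ b • π' e, by simp [he], rfl⟩, ?_⟩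
    simp only [map_sub, map_smul, Submodule.coe_sub, Submodule.coe_smul, hqe]
    simp [q, x]
    module

theorem inFreeSummand_self [IsNoetherianRing (R ⧸ (⊥ : Ideal R).jacobson)] (hinf : InfRank R P)
    (s : P) : ∀ n : ℕ, InFreeSummand R ((0, s) : (Fin n → R) × P) → InFreeSummand R s := by
  intro n
  induction n with
  | zero =>
    intro h
    exact h.map (LinearEquiv.uniqueProd (R := R) (M := P) (M₂ := Fin 0 → R))
  | succ n ih =>
    intro h
    let e : ((Fin (n + 1) → R) × P) ≃ₗ[R] R × ((Fin n → R) × P) :=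
      ((Fin.consLinearEquiv R (fun _ : Fin (n + 1) => R)).symm.prodCongr (LinearEquiv.refl R P)) ≪≫ₗ
        LinearEquiv.prodAssoc R R (Fin n → R) P
    refine ih (descend (hinf.of_surjective (LinearMap.snd R (Fin n → R) P) Prod.snd_surjective) _ ?_)
    have he : e (0, s) = (0, 0, s) := by
      refine Prod.ext ?_ (Prod.ext ?_ ?_) <;> simp [e] <;> rfl
    exact he ▸ h.map e

end Groth.Agent.SerreSplit.Bass
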