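import Mathlib.Algebra.Module.FinitePresentation
import Mathlib.RingTheory.QuotSMulTop
import Mathlib.Algebra.Module.Torsion.Basic
import Mathlib.RingTheory.Spectrum.Maximal.Topology
import Mathlib.RingTheory.Ideal.Quotient.Operations
import Mathlib.Topology.NoetherianSpace
import Mathlib.Topology.Sets.Closeds
import Mathlib.LinearAlgebra.Basis.VectorSpace
import Mathlib.LinearAlgebra.Matrix.NonsingularInverse
import Mathlib.LinearAlgebra.Matrix.ToLin
import Mathlib.LinearAlgebra.Dimension.Finite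
import Mathlib.Order.KrullDimension
import Mathlib.Tactic.LinearCombination
import Mathlib.Tactic.Abel

/-!
Points of the maximal spectrum and the values `V(x)` of a module: the induction of Serre's
splitting proposition.
-/

set_option autoImplicit false

universe u

open TopologicalSpace

namespace Groth.Agent.SerreSplit.Basic

variable {R : Type u} [CommRing R] {M : Type u} [AddCommGroup M] [Module R M]

/-- Elements all of whose values under linear forms lie in `x`. -/
def perp (x : Ideal R) (M : Type u) [AddCommGroup M] [Module R M] : Submodule R M where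
  carrier := {m | ∀ φ : M →ₗ[R] R, φ m ∈ x}
  add_mem' ha hb φ := by rw [map_add]; exact x.add_mem (ha φ) (hb φ)
  zero_mem' φ := by simp
  smul_mem' c m hm φ := by rw [map_smul]; exact x.mul_mem_left c (hm φ)

theorem smul_top_le_perp (x : Ideal R) : (x • ⊤ : Submodule R M) ≤ perp x M := by
  refine Submodule.smul_le.mpr fun a ha m _ φ => ?_
  rw [map_smul]
  exact x.mul_mem_right _ ha

/-- The span over `R/x` of the classes of `perp x M` in `M/xM`. -/
def barPerp (x : Ideal R) (M : Type u) [AddCommGroup M] [Module R M] :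
    Submodule (R ⧸ x) (M ⧸ (x • ⊤ : Submodule R M)) :=
  Submodule.span (R ⧸ x) ((x • ⊤ : Submodule R M).mkQ '' {m : M | ∀ φ : M →ₗ[R] R, φ m ∈ x})

theorem mkQ_mem_barPerp_iff (x : Ideal R) (m : M) :
    (x • ⊤ : Submodule R M).mkQ m ∈ barPerp x M ↔ m ∈ perp x M := by
  refine ⟨fun h => ?_, fun h => Submodule.subset_span ⟨m, h, rfl⟩⟩
  suffices key : ∀ z ∈ barPerp x M, ∀ n : M, (x • ⊤ : Submodule R M).mkQ n = z → n ∈ perp x M from
    key _ h m rfl
  intro z hz
  induction hz using Submodule.span_induction with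
  | mem z hz =>
    obtain ⟨n', hn', rfl⟩ := hz
    intro n hn
    have := smul_top_le_perp x ((Submodule.Quotient.eq _).mp hn)
    have hn'' : n' ∈ perp x M := hn'
    simpa using add_mem this hn''
  | zero => intro n hn; exact smul_top_le_perp x ((Submodule.Quotient.mk_eq_zero _).mp hn)
  | add a b _ _ ha hb =>
    intro n hn
    obtain ⟨a', rfl⟩ := Submodule.mkQ_surjective _ a
    obtain ⟨b', rfl⟩ := Submodule.mkQ_surjective _ b
    rw [← map_add] at hn
    have := add_mem (smul_top_le_perp x ((Submodule.Quotient.eq _).mp hn))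
      (add_mem (ha a' rfl) (hb b' rfl))
    simpa using this
  | smul c a _ ha =>
    intro n hn
    obtain ⟨a', rfl⟩ := Submodule.mkQ_surjective _ a
    obtain ⟨c, rfl⟩ := Ideal.Quotient.mk_surjective c
    have hn' : (x • ⊤ : Submodule R M).mkQ n = (x • ⊤ : Submodule R M).mkQ (c • a') := hn
    have := add_mem (smul_top_le_perp x ((Submodule.Quotient.eq _).mp hn'))
      ((perp x M).smul_mem c (ha a' rfl))
    simpa using this

/-- The class of `m` in `V(x) = M(x)/B(x)`. -/
def cls (x : Ideal R) (m : M) : (M ⧸ (x • ⊤ : Submodule R M)) ⧸ barPerp x M :=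
  (barPerp x M).mkQ ((x • ⊤ : Submodule R M).mkQ m)

theorem cls_eq_iff (x : Ideal R) (m n : M) : cls x m = cls x n ↔ m - n ∈ perp x M := by
  rw [← mkQ_mem_barPerp_iff, map_sub]
  exact Submodule.Quotient.eq _

theorem cls_sum (x : Ideal R) {h : ℕ} (s : Fin h → M) (c : Fin h → R) :
    ∑ i, Ideal.Quotient.mk x (c i) • cls x (s i) = cls x (∑ i, c i • s i) := by
  simp only [cls, map_sum]
  exact Finset.sum_congr rfl fun i _ => rfl

/-- Linear independence in `V(x)`. -/
def Ind (x : Ideal R) {h : ℕ} (s : Fin h → M) : Prop :=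
  ∀ c : Fin h → R, ∑ i, c i • s i ∈ perp x M → ∀ i, c i ∈ x

theorem linearIndependent_iff_ind (x : Ideal R) [x.IsMaximal] {h : ℕ} (s : Fin h → M) :
    LinearIndependent (R ⧸ x) (fun i => cls x (s i)) ↔ Ind x s := by
  rw [Fintype.linearIndependent_iff]
  have key : ∀ c : Fin h → R, ∑ i, Ideal.Quotient.mk x (c i) • cls x (s i) = 0 ↔
      ∑ i, c i • s i ∈ perp x M := by
    intro c
    rw [cls_sum, ← mkQ_mem_barPerp_iff]
    exact Submodule.Quotient.mk_eq_zero _
  constructor
  · intro hs c hc i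
    exact Ideal.Quotient.eq_zero_iff_mem.mp (hs _ ((key c).mpr hc) i)
  · intro hs c hc i
    choose c' hc' using fun i => Ideal.Quotient.mk_surjective (I := x) (c i)
    rw [← hc']
    refine Ideal.Quotient.eq_zero_iff_mem.mpr (hs c' ((key c').mp ?_) i)
    simp only [hc']
    exact hc

theorem Ind.exists_forms {x : Ideal R} [x.IsMaximal] {h : ℕ} {s : Fin h → M} (hs : Ind x s) :
    ∃ φ : Fin h → (M →ₗ[R] R), ∀ i j, φ j (s i) - (if i = j then 1 else 0) ∈ x := by
  letI := Ideal.Quotient.field x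
  let L : (M →ₗ[R] R) →ₗ[R] (Fin h → R ⧸ x) :=
    LinearMap.pi fun i => (Algebra.linearMap R (R ⧸ x)).comp (LinearMap.applyₗ (s i))
  let P := Submodule.span (R ⧸ x) (Set.range L)
  have hP : P = ⊤ := by
    by_contra hne
    obtain ⟨f, hf0, hf⟩ := P.exists_le_ker_of_lt_top (lt_top_iff_ne_top.mpr hne)
    choose c hc using fun i => Ideal.Quotient.mk_surjective (I := x) (f (Pi.single i 1))
    apply hf0
    have hmem : ∑ i, c i • s i ∈ perp x M := by
      intro φ
      have h1 : f (L φ) = 0 := hf (Submodule.subset_span ⟨φ, rfl⟩)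
      rw [← Ideal.Quotient.eq_zero_iff_mem, ← h1, ← Finset.univ_sum_single (L φ)]
      simp only [map_sum, map_smul, smul_eq_mul, map_mul]
      refine Finset.sum_congr rfl fun i _ => ?_
      have : Pi.single i (L φ i) = (L φ i) • (Pi.single i 1 : Fin h → R ⧸ x) := by
        rw [← Pi.single_smul', smul_eq_mul, mul_one]
      rw [this, map_smul, ← hc, smul_eq_mul, mul_comm]
      rfl
    refine LinearMap.pi_ext' fun i => LinearMap.ext_ring ?_
    simp [← hc, Ideal.Quotient.eq_zero_iff_mem.mpr (hs c hmem i)]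
  have hsurj : ∀ v, ∃ φ, L φ = v := by
    intro v
    have hv : v ∈ P := hP ▸ trivial
    induction hv using Submodule.span_induction with
    | mem v hv => exact hv
    | zero => exact ⟨0, map_zero L⟩
    | add a b _ _ ha hb =>
      obtain ⟨φ, rfl⟩ := ha; obtain ⟨ψ, rfl⟩ := hb
      exact ⟨φ + ψ, map_add L φ ψ⟩
    | smul c a _ ha =>
      obtain ⟨φ, rfl⟩ := ha
      obtain ⟨c, rfl⟩ := Ideal.Quotient.mk_surjective c
      exact ⟨c • φ, by rw [map_smul]; rfl⟩
  choose φ hφ using fun j : Fin h => hsurj (Pi.single j 1)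
  refine ⟨φ, fun i j => Ideal.Quotient.eq_zero_iff_mem.mp ?_⟩
  have h1 := congrFun (hφ j) i
  simp only [L, LinearMap.pi_apply, LinearMap.comp_apply, LinearMap.applyₗ_apply_apply,
    Algebra.linearMap_apply, Ideal.Quotient.algebraMap_eq, Pi.single_apply] at h1
  rw [map_sub, h1]
  split_ifs <;> simp

theorem ind_of_det_notMem {y : Ideal R} [y.IsPrime] {h : ℕ} (s : Fin h → M)
    (φ : Fin h → (M →ₗ[R] R)) (hd : (Matrix.of fun i j => φ j (s i)).det ∉ y) : Ind y s := by
  intro c hc i
  let A : Matrix (Fin h) (Fin h) R := Matrix.of fun i j => φ j (s i)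
  have h1 : ∀ j, Matrix.vecMul c A j ∈ y := fun j => by
    have := hc (φ j)
    simpa [Matrix.vecMul, dotProduct, A] using this
  have h2 : Matrix.vecMul (Matrix.vecMul c A) A.adjugate i ∈ y :=
    Ideal.sum_mem y (t := Finset.univ) (f := fun j => Matrix.vecMul c A j * A.adjugate j i)
      fun j _ => y.mul_mem_right _ (h1 j)
  rw [Matrix.vecMul_vecMul, Matrix.mul_adjugate, Matrix.vecMul_smul, Matrix.vecMul_one,
    Pi.smul_apply, smul_eq_mul] at h2
  exact (Ideal.IsPrime.mem_or_mem ‹_› h2).resolve_left hd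

theorem Ind.exists_det_notMem {x : Ideal R} [x.IsMaximal] {h : ℕ} {s : Fin h → M} (hs : Ind x s) :
    ∃ φ : Fin h → (M →ₗ[R] R), (Matrix.of fun i j => φ j (s i)).det ∉ x := by
  obtain ⟨φ, hφ⟩ := hs.exists_forms
  refine ⟨φ, fun hd => ‹x.IsMaximal›.ne_top (x.eq_top_iff_one.mpr ?_)⟩
  have h1 : (Matrix.of fun i j => φ j (s i)).map (Ideal.Quotient.mk x) = 1 := by
    ext i j
    rw [Matrix.map_apply, Matrix.of_apply, Ideal.Quotient.eq.mpr (hφ i j), Matrix.one_apply]
    split_ifs <;> simp
  have h2 := RingHom.map_det (Ideal.Quotient.mk x) (Matrix.of fun i j => φ j (s i))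
  rw [RingHom.mapMatrix_apply, h1, Matrix.det_one, Ideal.Quotient.eq_zero_iff_mem.mpr hd] at h2
  exact Ideal.Quotient.eq_zero_iff_mem.mp (by rw [map_one, ← h2])

/-- The degeneracy set of a family. -/
def deg {h : ℕ} (s : Fin h → M) : Set (MaximalSpectrum R) := {x | ¬ Ind x.asIdeal s}

theorem isClosed_deg {h : ℕ} (s : Fin h → M) : IsClosed (deg (R := R) s) := by
  rw [← isOpen_compl_iff, isOpen_iff_mem_nhds]
  intro x hx
  obtain ⟨φ, hφ⟩ := (not_not.mp hx : Ind x.asIdeal s).exists_det_notMem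
  let U : Set (MaximalSpectrum R) :=
    MaximalSpectrum.toPrimeSpectrum ⁻¹' (PrimeSpectrum.basicOpen (Matrix.of fun i j => φ j (s i)).det)
  refine Filter.mem_of_superset ((((PrimeSpectrum.basicOpen _).isOpen).preimage
    MaximalSpectrum.toPrimeSpectrum_continuous).mem_nhds (x := x) hφ) fun y hy => ?_
  exact not_not.mpr (ind_of_det_notMem s φ hy)

theorem ind_congr_last {x : Ideal R} {h : ℕ} {s : Fin h → M} {a b : M} (hab : a - b ∈ perp x M)
    (H : Ind x (Fin.snoc s a : Fin (h + 1) → M)) : Ind x (Fin.snoc s b : Fin (h + 1) → M) := by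
  intro c hc
  refine H c ?_
  have := add_mem hc ((perp x M).smul_mem (c (Fin.last h)) hab)
  simp only [Fin.sum_univ_castSucc, Fin.snoc_castSucc, Fin.snoc_last, smul_sub] at this ⊢
  convert this using 1
  abel

theorem Ind.init {x : Ideal R} {h : ℕ} {s : Fin h → M} {a : M}
    (H : Ind x (Fin.snoc s a : Fin (h + 1) → M)) : Ind x s := by
  intro c hc i
  have := H (Fin.snoc c 0) (by simpa [Fin.sum_univ_castSucc] using hc) i.castSucc
  simpa using this

theorem ind_combine {x : Ideal R} {h : ℕ} {s : Fin h → M} {a b : M} (r : R)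
    (H : Ind x (Fin.snoc (Fin.snoc s a) b : Fin (h + 2) → M)) :
    Ind x (Fin.snoc s (a + r • b) : Fin (h + 1) → M) := by
  intro c hc
  have := H (Fin.snoc c (c (Fin.last h) * r)) (by
    simp only [Fin.sum_univ_castSucc, Fin.snoc_castSucc, Fin.snoc_last, smul_add, smul_smul] at hc ⊢
    rwa [add_assoc])
  exact fun i => by simpa using this i.castSucc

theorem exists_dep {x : Ideal R} [x.IsMaximal] {h : ℕ} {s : Fin h → M} {a : M} (hs : Ind x s)
    (H : ¬ Ind x (Fin.snoc s a : Fin (h + 1) → M)) :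
    ∃ c : Fin h → R, a - ∑ i, c i • s i ∈ perp x M := by
  simp only [Ind, not_forall] at H
  obtain ⟨c, hc, i, hi⟩ := H
  simp only [Fin.sum_univ_castSucc, Fin.snoc_castSucc, Fin.snoc_last] at hc
  have hd : c (Fin.last h) ∉ x := by
    intro hd
    induction i using Fin.lastCases with
    | last => exact hi hd
    | cast i =>
      refine hi (hs (fun i => c i.castSucc) ?_ i)
      have h2 : c (Fin.last h) • a ∈ perp x M :=
        smul_top_le_perp x (Submodule.smul_mem_smul hd trivial)
      simpa using sub_mem hc h2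
  obtain ⟨e, f, hf, hef⟩ := ‹x.IsMaximal›.exists_inv hd
  refine ⟨fun i => -(e * c i.castSucc), ?_⟩
  have h2 : f • a ∈ perp x M := smul_top_le_perp x (Submodule.smul_mem_smul hf trivial)
  have h3 := add_mem ((perp x M).smul_mem e hc) h2
  have : a = (e * c (Fin.last h) + f) • a := by rw [hef, one_smul]
  rw [this]
  simp only [add_smul, smul_add, Finset.smul_sum, smul_smul, neg_smul, Finset.sum_neg_distrib,
    sub_neg_eq_add] at h3 ⊢
  convert h3 using 1
  abel

theorem exists_new {x : Ideal R} [x.IsMaximal] {h : ℕ} {s : Fin h → M} (hs : Ind x s)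
    (hdim : h + 1 ≤ Module.finrank (R ⧸ x) ((M ⧸ (x • ⊤ : Submodule R M)) ⧸ barPerp x M)) :
    ∃ u : M, Ind x (Fin.snoc s u : Fin (h + 1) → M) := by
  by_contra hu
  rw [not_exists] at hu
  letI := Ideal.Quotient.field x
  have htop : Submodule.span (R ⧸ x) (Set.range fun i => cls x (s i)) = ⊤ := by
    rw [eq_top_iff]
    intro z _
    obtain ⟨z, rfl⟩ := Submodule.mkQ_surjective _ z
    obtain ⟨m, rfl⟩ := Submodule.mkQ_surjective _ z
    obtain ⟨c, hc⟩ := exists_dep hs (hu m)
    rw [Submodule.mem_span_range_iff_exists_fun]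
    exact ⟨fun i => Ideal.Quotient.mk x (c i), (cls_sum x s c).trans ((cls_eq_iff x _ _).mpr hc).symm⟩
  have := finrank_range_le_card (R := R ⧸ x) fun i => cls x (s i)
  rw [Set.finrank, htop, finrank_top, Fintype.card_fin] at this
  omega

theorem ind_perturb {x : Ideal R} {h : ℕ} {s : Fin h → M} {a b u : M} {r : R} {c : Fin h → R}
    (hu : Ind x (Fin.snoc s u : Fin (h + 1) → M)) (ha : a - ∑ i, c i • s i ∈ perp x M)
    (hb : b - u ∈ perp x M) (hr : r - 1 ∈ x) :
    Ind x (Fin.snoc s (a + r • b) : Fin (h + 1) → M) := by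
  intro e he
  have hrb : (r - 1) • b ∈ perp x M := smul_top_le_perp x (Submodule.smul_mem_smul hr trivial)
  have key := hu (Fin.snoc (fun i => e i.castSucc + e (Fin.last h) * c i) (e (Fin.last h))) (by
    have := sub_mem he ((perp x M).smul_mem (e (Fin.last h)) (add_mem ha (add_mem hb hrb)))
    simp only [Fin.sum_univ_castSucc, Fin.snoc_castSucc, Fin.snoc_last, add_smul, sub_smul,
      smul_add, smul_sub, one_smul, Finset.sum_add_distrib, Finset.smul_sum, smul_smul] at this ⊢
    convert this using 1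
    abel)
  have hl : e (Fin.last h) ∈ x := by simpa using key (Fin.last h)
  intro i
  induction i using Fin.lastCases with
  | last => exact hl
  | cast i =>
    have := sub_mem (by simpa using key i.castSucc : e i.castSucc + e (Fin.last h) * c i ∈ x)
      (x.mul_mem_right (c i) hl)
    simpa using this

/-- Approximation at finitely many maximal ideals. -/
theorem exists_congr (X : Finset (MaximalSpectrum R)) (v : MaximalSpectrum R → M) :
    ∃ t : M, ∀ x ∈ X, t - v x ∈ perp x.asIdeal M := by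
  classical
  have hcop : Pairwise (Function.onFun IsCoprime fun x : X => x.1.asIdeal) := by
    intro x y hxy
    refine Ideal.isCoprime_iff_sup_eq.mpr (Ideal.IsMaximal.coprime_of_ne x.1.isMaximal y.1.isMaximal ?_)
    exact fun h => hxy (Subtype.ext (MaximalSpectrum.ext h))
  choose e he using fun x : X => Ideal.exists_forall_sub_mem_ideal hcop (fun y : X => if y = x then 1 else 0)
  refine ⟨∑ x : X, e x • v x, fun y hy => smul_top_le_perp _ ?_⟩
  have h1 : ∑ x : X, (if (⟨y, hy⟩ : X) = x then (1 : R) else 0) • v x = v y := by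
    simp [ite_smul]
  rw [← h1, ← Finset.sum_sub_distrib]
  refine Submodule.sum_mem _ fun x _ => ?_
  rw [← sub_smul]
  exact Submodule.smul_mem_smul (he x ⟨y, hy⟩) trivial

theorem exists_components [NoetherianSpace (MaximalSpectrum R)] {Z : Set (MaximalSpectrum R)}
    (hZ : IsClosed Z) :
    ∃ S : Finset (IrreducibleCloseds (MaximalSpectrum R)), (∀ C ∈ S, (C : Set (MaximalSpectrum R)) ⊆ Z) ∧
      ∀ W : IrreducibleCloseds (MaximalSpectrum R), (W : Set (MaximalSpectrum R)) ⊆ Z →
        ∃ C ∈ S, (W : Set (MaximalSpectrum R)) ⊆ C := by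
  classical
  obtain ⟨S, hS, hcl, hirr, rfl⟩ := NoetherianSpace.exists_finite_set_isClosed_irreducible hZ
  refine ⟨hS.toFinset.attach.image fun C =>
    ⟨C.1, hirr _ (hS.mem_toFinset.mp C.2), hcl _ (hS.mem_toFinset.mp C.2)⟩, ?_, ?_⟩
  · intro C hC
    obtain ⟨C, -, rfl⟩ := Finset.mem_image.mp hC
    exact Set.subset_sUnion_of_mem (hS.mem_toFinset.mp C.2)
  · intro W hW
    obtain ⟨C, hC, hWC⟩ := isIrreducible_iff_sUnion_isClosed.mp W.isIrreducible hS.toFinset
      (fun z hz => hcl z (hS.mem_toFinset.mp hz)) (by rwa [hS.coe_toFinset])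
    exact ⟨_, Finset.mem_image.mpr ⟨⟨C, hC⟩, Finset.mem_attach _ _, rfl⟩, hWC⟩

theorem coheight_gain {W C : IrreducibleCloseds (MaximalSpectrum R)}
    (hWC : (W : Set (MaximalSpectrum R)) ⊆ C) {y : MaximalSpectrum R} (hyC : y ∈ (C : Set (MaximalSpectrum R)))
    (hyW : y ∉ (W : Set (MaximalSpectrum R))) {k : ℕ} (hk : (k : ℕ∞) ≤ Order.coheight C) :
    ((k + 1 : ℕ) : ℕ∞) ≤ Order.coheight W := by
  have hlt : W < C := lt_of_le_not_ge (fun z hz => hWC hz) fun hle => hyW (hle hyC)
  rw [Nat.cast_succ]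
  exact le_trans (by gcongr) (Order.coheight_add_one_le hlt)

/-- Serre's splitting induction. -/
theorem exists_section [NoetherianSpace (MaximalSpectrum R)] (k : ℕ) :
    ∀ (h : ℕ) (s : Fin h → M) (F : Set (MaximalSpectrum R)) (X : Finset (MaximalSpectrum R))
      (v : MaximalSpectrum R → M), IsClosed F → (↑X ⊆ F) →
      (∀ x : MaximalSpectrum R, h + k ≤ Module.finrank (R ⧸ x.asIdeal)
        ((M ⧸ (x.asIdeal • ⊤ : Submodule R M)) ⧸ barPerp x.asIdeal M)) →
      deg s ⊆ F →
      ∃ t : M, (∀ x ∈ X, t - v x ∈ perp x.asIdeal M) ∧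
        ∀ W : IrreducibleCloseds (MaximalSpectrum R),
          (W : Set (MaximalSpectrum R)) ⊆ deg (Fin.snoc s t : Fin (h + 1) → M) →
          ¬ (W : Set (MaximalSpectrum R)) ⊆ F → (k : ℕ∞) ≤ Order.coheight W := by
  classical
  induction k with
  | zero =>
    intro h s F X v _ _ _ _
    obtain ⟨t, ht⟩ := exists_congr X v
    exact ⟨t, ht, fun W _ _ => by simp⟩
  | succ k ih =>
    intro h s F X v hF hX hdim hdeg
    obtain ⟨s', hs'X, hs'⟩ := ih h s F X v hF hX (fun x => le_trans (by omega) (hdim x)) hdeg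
    obtain ⟨S₁, hS₁, hS₁'⟩ := exists_components (isClosed_deg (R := R) (Fin.snoc s s' : Fin (h + 1) → M))
    let L₁ := S₁.filter fun C : IrreducibleCloseds (MaximalSpectrum R) => ¬ (C : Set (MaximalSpectrum R)) ⊆ F
    choose y hy hyF using fun C : L₁ => Set.not_subset.mp (Finset.mem_filter.mp C.2).2
    let Y : Finset (MaximalSpectrum R) := Finset.univ.image y
    have hYF : ∀ x ∈ Y, x ∉ F := by
      intro x hx
      obtain ⟨C, -, rfl⟩ := Finset.mem_image.mp hx
      exact hyF C
    have hYdeg : ∀ x ∈ Y, x ∈ deg (Fin.snoc s s' : Fin (h + 1) → M) := by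
      intro x hx
      obtain ⟨C, -, rfl⟩ := Finset.mem_image.mp hx
      exact hS₁ _ (Finset.mem_filter.mp C.2).1 (hy C)
    choose u hu using fun x : Y => exists_new (x := x.1.asIdeal)
      (not_not.mp fun hn => hYF _ x.2 (hdeg hn)) (le_trans (by omega) (hdim x.1))
    let v' : MaximalSpectrum R → M := fun x => if hx : x ∈ Y then u ⟨x, hx⟩ else 0
    obtain ⟨t', ht'X, ht'⟩ := ih (h + 1) (Fin.snoc s s') (F ∪ deg (Fin.snoc s s' : Fin (h + 1) → M))
      (X ∪ Y) v' (hF.union (isClosed_deg _)) (by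
        intro x hx
        rcases Finset.mem_union.mp (Finset.mem_coe.mp hx) with hx | hx
        · exact Or.inl (hX hx)
        · exact Or.inr (hYdeg x hx))
      (fun x => le_trans (by omega) (hdim x)) Set.subset_union_right
    obtain ⟨S₂, hS₂, hS₂'⟩ :=
      exists_components (isClosed_deg (R := R) (Fin.snoc (Fin.snoc s s') t' : Fin (h + 2) → M))
    let L₂ := S₂.filter fun C : IrreducibleCloseds (MaximalSpectrum R) =>
      ¬ (C : Set (MaximalSpectrum R)) ⊆ F ∪ deg (Fin.snoc s s' : Fin (h + 1) → M)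
    choose z hz hzF using fun C : L₂ => Set.not_subset.mp (Finset.mem_filter.mp C.2).2
    let Zs : Finset (MaximalSpectrum R) := Finset.univ.image z
    obtain ⟨a, ha⟩ := exists_congr (M := R) (Y ∪ Zs) fun x => if x ∈ Y then (1 : R) else 0
    have ha' : ∀ x ∈ Y ∪ Zs, a - (if x ∈ Y then (1 : R) else 0) ∈ x.asIdeal :=
      fun x hx => ha x hx LinearMap.id
    refine ⟨s' + a • t', ?_, ?_⟩
    · intro x hx
      have hxY : x ∉ Y := fun hY => hYF x hY (hX hx)
      have := ht'X x (Finset.mem_union_left _ hx)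
      simp only [v', dif_neg hxY, sub_zero] at this
      rw [add_sub_right_comm]
      exact add_mem (hs'X x hx) ((perp x.asIdeal M).smul_mem a this)
    · intro W hW hWF
      by_cases hW₁ : (W : Set (MaximalSpectrum R)) ⊆ F ∪ deg (Fin.snoc s s' : Fin (h + 1) → M)
      · have hWd : (W : Set (MaximalSpectrum R)) ⊆ deg (Fin.snoc s s' : Fin (h + 1) → M) :=
          (isPreirreducible_iff_isClosed_union_isClosed.mp W.isIrreducible.isPreirreducible F _ hF
            (isClosed_deg _) hW₁).resolve_left hWF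
        obtain ⟨C, hC, hWC⟩ := hS₁' W hWd
        have hCF : ¬ (C : Set (MaximalSpectrum R)) ⊆ F := fun hh => hWF (hWC.trans hh)
        let C' : L₁ := ⟨C, Finset.mem_filter.mpr ⟨hC, hCF⟩⟩
        refine coheight_gain hWC (hy C') (fun hyW => hW hyW ?_) (hs' C (hS₁ C hC) hCF)
        have hYy : y C' ∈ Y := Finset.mem_image.mpr ⟨C', Finset.mem_univ _, rfl⟩
        obtain ⟨c, hc⟩ := exists_dep (x := (y C').asIdeal)
          (not_not.mp fun hn => hYF _ hYy (hdeg hn)) (hYdeg _ hYy)
        have h1 := ht'X _ (Finset.mem_union_right X hYy)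
        simp only [v', dif_pos hYy] at h1
        have h2 := ha' _ (Finset.mem_union_left Zs hYy)
        rw [if_pos hYy] at h2
        exact ind_perturb (hu ⟨_, hYy⟩) hc h1 h2
      · have hWd : (W : Set (MaximalSpectrum R)) ⊆ deg (Fin.snoc (Fin.snoc s s') t' : Fin (h + 2) → M) :=
          fun x hx H => hW hx (ind_combine a H)
        obtain ⟨C, hC, hWC⟩ := hS₂' W hWd
        have hCF : ¬ (C : Set (MaximalSpectrum R)) ⊆ F ∪ deg (Fin.snoc s s' : Fin (h + 1) → M) :=
          fun hh => hW₁ (hWC.trans hh)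
        let C' : L₂ := ⟨C, Finset.mem_filter.mpr ⟨hC, hCF⟩⟩
        refine coheight_gain hWC (hz C') (fun hzW => hW hzW ?_) (ht' C (hS₂ C hC) hCF)
        have hnot := hzF C'
        rw [Set.mem_union, not_or] at hnot
        have hzY : z C' ∉ Y := fun hY => hnot.2 (hYdeg _ hY)
        have h2 := ha' _ (Finset.mem_union_right Y (Finset.mem_image.mpr ⟨C', Finset.mem_univ _, rfl⟩ : z C' ∈ Zs))
        rw [if_neg hzY, sub_zero] at h2
        refine ind_congr_last ?_ (not_not.mp hnot.2)
        have : s' - (s' + a • t') = -(a • t') := by abel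
        rw [this]
        exact neg_mem (smul_top_le_perp _ (Submodule.smul_mem_smul h2 trivial))

end Groth.Agent.SerreSplit.Basic
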